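import Groth.Agent.SGA1t.K341.PushFlc

/-!
# Low degree exact sequence of a composition of direct images

`exists_exact`: the exact sequence
`0 → R¹ k_* (a_* F) → R¹ (a ≫ k)_* F → k_* R¹ a_* F → R² k_* (a_* F)`.
`isFLC_R1`: `R¹ (a ≫ k)_* F` is finite locally constant if the other three terms are so.
-/

set_option autoImplicit false
universe u
open CategoryTheory CategoryTheory.Limits AlgebraicGeometry Opposite

namespace K341.Snc

open Groth.Agent Groth.Agent.Etrest.FinDev Groth.Agent.Etrest.FinComp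
open scoped ZeroObject

section Diagram

universe v₂ u₂

variable {D : Type u₂} [Category.{v₂} D] [Abelian D]

/-- `A → B → R → 0`, `0 → B → Z → E → T`, `A → Z → H → 0` exact give `0 → R → H → E → T` exact. -/
theorem exists_exact_of_diagram {A B Z H R E T : D} (p : A ⟶ B) (i : B ⟶ Z) (q : Z ⟶ H)
    (δ : B ⟶ R) (π : Z ⟶ E) (ε : E ⟶ T)
    (w₁ : (p ≫ i) ≫ q = 0) (w₂ : i ≫ π = 0) (w₃ : p ≫ δ = 0) (w₄ : π ≫ ε = 0) [Epi q] [Mono i] [Epi δ]
    (e₁ : (ShortComplex.mk (p ≫ i) q w₁).Exact)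
    (e₂ : (ShortComplex.mk i π w₂).Exact) (e₃ : (ShortComplex.mk p δ w₃).Exact)
    (e₄ : (ShortComplex.mk π ε w₄).Exact) :
    ∃ (m : R ⟶ H) (n : H ⟶ E) (w : m ≫ n = 0) (w' : n ≫ ε = 0),
      Mono m ∧ (ShortComplex.mk m n w).Exact ∧ (ShortComplex.mk n ε w').Exact := by
  have : Epi (ShortComplex.mk p δ w₃).g := by dsimp; infer_instance
  have : Epi (ShortComplex.mk (p ≫ i) q w₁).g := by dsimp; infer_instance
  have : Mono (ShortComplex.mk i π w₂).f := by dsimp; infer_instance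
  have hw : p ≫ (i ≫ q) = 0 := by rw [← Category.assoc]; exact w₁
  let m : R ⟶ H := e₃.desc (i ≫ q) hw
  have hm : δ ≫ m = i ≫ q := e₃.g_desc _ _
  have hw' : (p ≫ i) ≫ π = 0 := by rw [Category.assoc, w₂, comp_zero]
  let n : H ⟶ E := e₁.desc π hw'
  have hn : q ≫ n = π := e₁.g_desc _ _
  have w : m ≫ n = 0 := by
    rw [← cancel_epi δ, ← Category.assoc, hm, Category.assoc, hn, w₂, comp_zero]
  have w' : n ≫ ε = 0 := by
    rw [← cancel_epi q, ← Category.assoc, hn, w₄, comp_zero]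
  have hmono : Mono m := by
    rw [Preadditive.mono_iff_cancel_zero]
    intro T x hx
    obtain ⟨T', a, _, y, hy⟩ := surjective_up_to_refinements_of_epi δ x
    have h1 : (y ≫ i) ≫ q = 0 := by
      rw [Category.assoc, ← hm, ← Category.assoc, ← hy, Category.assoc, hx, comp_zero]
    obtain ⟨T'', b, _, z, hz⟩ := e₁.exact_up_to_refinements (y ≫ i) h1
    dsimp at hz
    have h2 : b ≫ y = z ≫ p := by
      rw [← cancel_mono i]; simpa using hz
    rw [← cancel_epi a, ← cancel_epi b, hy, ← Category.assoc, h2, Category.assoc, w₃]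
    simp
  refine ⟨m, n, w, w', hmono, ?_, ?_⟩
  · rw [ShortComplex.exact_iff_exact_up_to_refinements]
    intro T x hx
    dsimp at x hx
    obtain ⟨T', a, ha, z, hz⟩ := surjective_up_to_refinements_of_epi q x
    have h1 : z ≫ π = 0 := by
      rw [← hn, ← Category.assoc, ← hz, Category.assoc, hx, comp_zero]
    refine ⟨T', a, ha, e₂.lift z h1 ≫ δ, ?_⟩
    have h2 : e₂.lift z h1 ≫ i = z := e₂.lift_f _ _
    change a ≫ x = (e₂.lift z h1 ≫ δ) ≫ m
    rw [hz, Category.assoc, hm, ← Category.assoc, h2]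
  · rw [ShortComplex.exact_iff_exact_up_to_refinements]
    intro T' x hx
    dsimp at x hx
    obtain ⟨T'', a, ha, z, hz⟩ := e₄.exact_up_to_refinements x hx
    refine ⟨T'', a, ha, z ≫ q, ?_⟩
    change a ≫ x = (z ≫ q) ≫ n
    rw [Category.assoc, hn]
    exact hz

end Diagram

section Abstract

universe v₁ v₂ u₁ u₂

variable {C : Type u₁} [Category.{v₁} C] [Abelian C] {D : Type u₂} [Category.{v₂} D] [Abelian D]
  (K : CochainComplex C ℕ) {R : ℕ → C ⥤ D} [∀ n, (R n).PreservesZeroMorphisms] (hR : HasLES R)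
  (G : C ⥤ D) [G.Additive] [PreservesFiniteLimits G] (e : R 0 ≅ G)

include hR e in
/-- `0 → R¹ Z⁰ → H¹(G K) → G (H¹ K) → R² Z⁰` is exact if `R¹ K⁰ = 0`. -/
theorem exists_exact_complex (hK : IsZero ((R 1).obj (K.X 0))) :
    ∃ (m : (R 1).obj (K.cycles 0) ⟶ (mapCx G K).homology (0 + 1))
      (n : (mapCx G K).homology (0 + 1) ⟶ G.obj (K.homology (0 + 1)))
      (d : G.obj (K.homology (0 + 1)) ⟶ (R 2).obj (K.cycles 0)) (w : m ≫ n = 0) (w' : n ≫ d = 0),
      Mono m ∧ (ShortComplex.mk m n w).Exact ∧ (ShortComplex.mk n d w').Exact := by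
  obtain ⟨δ, w, e₃, hepi⟩ := exact_delta K hR G e 0
  have hδ : Epi δ := hepi hK
  have hi : Mono (G.map (image.ι (K.toCycles 0 (0 + 1)))) := inferInstance
  have w₁ : (G.map (factorThruImage (K.toCycles 0 (0 + 1))) ≫
      G.map (image.ι (K.toCycles 0 (0 + 1)))) ≫
      ((cyclesIso K G (0 + 1)).hom ≫ (mapCx G K).homologyπ (0 + 1)) = 0 := by
    rw [← G.map_comp, image.fac]
    exact map_toCycles_zero K G 0
  have w₂ : G.map (image.ι (K.toCycles 0 (0 + 1))) ≫ G.map (K.homologyπ (0 + 1)) = 0 := by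
    rw [← G.map_comp, imageι_homologyπ, G.map_zero]
  -- `R¹ B¹ → R² Z⁰` is a monomorphism
  obtain ⟨δ₁, v₁, v₁', d₁, d₁'⟩ := hR.les _ (sc₁_shortExact K 0) 1
  have hδ₁ : Mono δ₁ := d₁.mono_g (hK.eq_of_src _ _)
  obtain ⟨δ₂, v₂, v₂', d₂, d₂'⟩ := hR.les _ (sc₂_shortExact K 0) 0
  have v₂'' : (R 0).map (K.homologyπ (0 + 1)) ≫ δ₂ = 0 := v₂
  have w₄ : G.map (K.homologyπ (0 + 1)) ≫ (e.inv.app _ ≫ δ₂ ≫ δ₁) = 0 := by
    rw [← Category.assoc, e.inv.naturality, Category.assoc, ← Category.assoc _ δ₂, v₂'', zero_comp,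
      comp_zero]
  have e₄ : (ShortComplex.mk (G.map (K.homologyπ (0 + 1))) (e.inv.app _ ≫ δ₂ ≫ δ₁) w₄).Exact := by
    let ψ : ShortComplex.mk (G.map (K.homologyπ (0 + 1))) (e.inv.app _ ≫ δ₂) (by
        rw [← Category.assoc, e.inv.naturality, Category.assoc, v₂'', comp_zero]) ⟶
        ShortComplex.mk _ _ v₂'' :=
      { τ₁ := e.inv.app _
        τ₂ := e.inv.app _
        τ₃ := 𝟙 _
        comm₁₂ := (e.inv.naturality _).symm
        comm₂₃ := by simp }
    have : Epi ψ.τ₁ := by dsimp [ψ]; infer_instance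
    have : IsIso ψ.τ₂ := by dsimp [ψ]; infer_instance
    have : Mono ψ.τ₃ := by dsimp [ψ]; infer_instance
    have h1 := (ShortComplex.exact_iff_of_epi_of_isIso_of_mono ψ).2 d₂
    let χ : ShortComplex.mk (G.map (K.homologyπ (0 + 1))) (e.inv.app _ ≫ δ₂) (by
        rw [← Category.assoc, e.inv.naturality, Category.assoc, v₂'', comp_zero]) ⟶
        ShortComplex.mk (G.map (K.homologyπ (0 + 1))) (e.inv.app _ ≫ δ₂ ≫ δ₁) w₄ :=
      { τ₁ := 𝟙 _
        τ₂ := 𝟙 _
        τ₃ := δ₁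
        comm₁₂ := by simp
        comm₂₃ := by simp }
    have : Epi χ.τ₁ := by dsimp [χ]; infer_instance
    have : IsIso χ.τ₂ := by dsimp [χ]; infer_instance
    have : Mono χ.τ₃ := by dsimp [χ]; infer_instance
    exact (ShortComplex.exact_iff_of_epi_of_isIso_of_mono χ).1 h1
  have e₁ : (ShortComplex.mk (G.map (factorThruImage (K.toCycles 0 (0 + 1))) ≫
      G.map (image.ι (K.toCycles 0 (0 + 1)))) _ w₁).Exact := by
    have := exact_homology K G 0
    convert this using 2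
    rw [← G.map_comp, image.fac]
  have e₂ : (ShortComplex.mk _ _ w₂).Exact :=
    (sc₂_shortExact K 0).exact.map_of_mono_of_preservesKernel G
      (sc₂_shortExact K 0).mono_f inferInstance
  have hq : Epi ((cyclesIso K G (0 + 1)).hom ≫ (mapCx G K).homologyπ (0 + 1)) := inferInstance
  obtain ⟨m, n, w, w', hm, h1, h2⟩ := exists_exact_of_diagram _ _ _ _ _ _ w₁ w₂ w w₄ e₁ e₂ e₃ e₄
  exact ⟨m, n, _, w, w', hm, h1, h2⟩

end Abstract

variable {U V X : Scheme.{u}} (a : U ⟶ V) (k : V ⟶ X) (F : EtCoh.Ab U)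

/-- `R¹ (a ≫ k)_* F` is finite locally constant if `R¹ k_* (a_* F)`, `R² k_* (a_* F)` and `k_* R¹ a_* F` are
so: low degree exact sequence of the composition. -/
theorem isFLC_R1 (h₁ : EtCoh.IsFiniteLocallyConstant ((EtCoh.Rpush k 1).obj ((EtCoh.push a).obj F)))
    (h₂ : EtCoh.IsFiniteLocallyConstant ((EtCoh.Rpush k 2).obj ((EtCoh.push a).obj F)))
    (h₃ : EtCoh.IsFiniteLocallyConstant ((EtCoh.push k).obj ((EtCoh.Rpush a 1).obj F))) :
    EtCoh.IsFiniteLocallyConstant ((EtCoh.Rpush (a ≫ k) 1).obj F) := by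
  let eZ : (res a F).cycles 0 ≅ (EtCoh.push a).obj F :=
    ((res a F).isoHomologyπ _ 0 rfl (by simp)) ≪≫ resIso a F 0 ≪≫ (rpushZero a).app F
  obtain ⟨m, n, d, w, w', hm, e₁, e₂⟩ := exists_exact_complex (res a F) (hasLES k) (EtCoh.push k)
    (rpushZero k) (res_acyclic a k F 0 0)
  refine Etrest.ConstBasic.isFiniteLocallyConstant_of_iso (resCompIso a k F 1)
    (EtpbcA.FLCExact.flc_five (0 : (0 : EtCoh.Ab X) ⟶ _) m n d
      (EtpbcA.FLCExact.stalkExact_of_isZero_left (isZero_zero _) _ _)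
      (EtpbcA.FLCExact.stalkExact_of_exact e₁) (EtpbcA.FLCExact.stalkExact_of_exact e₂)
      (EtpbcA.FLCExact.flc_of_isZero (isZero_zero _)) ?_ ?_ ?_)
  · exact Etrest.ConstBasic.isFiniteLocallyConstant_of_iso ((EtCoh.Rpush k 1).mapIso eZ).symm h₁
  · exact Etrest.ConstBasic.isFiniteLocallyConstant_of_iso ((EtCoh.push k).mapIso (resIso a F 1)).symm h₃
  · exact Etrest.ConstBasic.isFiniteLocallyConstant_of_iso ((EtCoh.Rpush k 2).mapIso eZ).symm h₂

end K341.Snc
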