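import Groth.Agent.Pi1.H405.Geom
import Groth.Agent.Pi1.H411.Chart

/-!
# The components of a strict normal crossings divisor given by global equations

* `Dv a`, `dv a`: the closed subscheme of `X` cut out by a global function `a`;
* `exists_isPullback`: its trace on an affine open subscheme;
* `smooth_dv`: the components of a relative strict normal crossings divisor are smooth over the base.
-/

set_option autoImplicit false
universe u
open CategoryTheory CategoryTheory.Limits AlgebraicGeometry Opposite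

namespace K341.Snc

open Groth.Agent Groth.Agent.Pi1.H405.Geom

variable {X S : Scheme.{u}}

/-- The closed subscheme of `X` cut out by a global function. -/
noncomputable def Dv (a : Γ(X, ⊤)) : Scheme.{u} := pullback X.toSpecΓ (hyp a)

/-- The inclusion of `Dv a`. -/
noncomputable def dv (a : Γ(X, ⊤)) : Dv a ⟶ X := pullback.fst X.toSpecΓ (hyp a)

instance (a : Γ(X, ⊤)) : IsClosedImmersion (dv a) :=
  inferInstanceAs (IsClosedImmersion (pullback.fst X.toSpecΓ (hyp a)))

theorem range_dv (a : Γ(X, ⊤)) : Set.range (dv a) = (X.basicOpen a : Set X)ᶜ := by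
  refine (Scheme.Pullback.range_fst X.toSpecΓ (hyp a)).trans ?_
  have h1 : (X.toSpecΓ ⁻¹ᵁ PrimeSpectrum.basicOpen a : X.Opens) = X.basicOpen a :=
    X.toSpecΓ_preimage_basicOpen a
  rw [← h1, range_hyp]
  rfl

/-- The trace of `Dv a` on an affine scheme over `X`. -/
theorem exists_isPullback (a : Γ(X, ⊤)) {A : Type u} [CommRing A] (t : Spec (CommRingCat.of A) ⟶ X)
    (ψ : Γ(X, ⊤) →+* A) (h : t ≫ X.toSpecΓ = Spec.map (CommRingCat.ofHom ψ)) :
    ∃ k : Spec (CommRingCat.of (A ⧸ Ideal.span {ψ a})) ⟶ Dv a, IsPullback k (hyp (ψ a)) (dv a) t := by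
  obtain ⟨δ, hδ⟩ := Sga4B.PushoutQuot.exists_lift (Ideal.Quotient.mk (Ideal.span {a}))
    Ideal.Quotient.mk_surjective ((Ideal.Quotient.mk (Ideal.span {ψ a})).comp ψ) (by
      rw [Ideal.mk_ker, Ideal.span_le, Set.singleton_subset_iff, SetLike.mem_coe, RingHom.mem_ker,
        RingHom.comp_apply, Ideal.Quotient.eq_zero_iff_mem]
      exact Ideal.mem_span_singleton_self _)
  have hpo := Sga4B.PushoutQuot.isPushout_of_surjective
    (CommRingCat.ofHom (Ideal.Quotient.mk (Ideal.span {a}))) (CommRingCat.ofHom ψ)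
    (CommRingCat.ofHom δ) (CommRingCat.ofHom (Ideal.Quotient.mk (Ideal.span {ψ a}))) (by
      ext x
      exact hδ x) Ideal.Quotient.mk_surjective Ideal.Quotient.mk_surjective (by
      change RingHom.ker (Ideal.Quotient.mk (Ideal.span {ψ a})) ≤
        (RingHom.ker (Ideal.Quotient.mk (Ideal.span {a}))).map ψ
      rw [Ideal.mk_ker, Ideal.mk_ker, Ideal.map_span, Set.image_singleton])
  have h1 := isPullback_SpecMap_of_isPushout _ _ _ _ hpo
  have h2 : IsPullback (dv a) (pullback.snd X.toSpecΓ (hyp a)) X.toSpecΓ (hyp a) :=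
    IsPullback.of_hasPullback _ _
  rw [← h] at h1
  have hw : Spec.map (CommRingCat.ofHom δ) ≫ hyp a = (hyp (ψ a) ≫ t) ≫ X.toSpecΓ := by
    rw [Category.assoc]
    exact h1.w
  let k : Spec (CommRingCat.of (A ⧸ Ideal.span {ψ a})) ⟶ Dv a := h2.lift _ _ hw.symm
  have hk1 : k ≫ dv a = hyp (ψ a) ≫ t := h2.lift_fst _ _ _
  have hk2 : k ≫ pullback.snd X.toSpecΓ (hyp a) = Spec.map (CommRingCat.ofHom δ) := h2.lift_snd _ _ _
  refine ⟨k, IsPullback.of_right ?_ hk1 h2.flip⟩
  rw [hk2]
  exact h1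

/-- The trace of `Dv a` on an affine open subscheme. -/
theorem exists_isPullback_fromSpec (a : Γ(X, ⊤)) {V : X.Opens} (hV : IsAffineOpen V) (b : Γ(X, V))
    (hb : b = X.presheaf.map (homOfLE le_top).op a) :
    ∃ k : Spec (CommRingCat.of (Γ(X, V) ⧸ Ideal.span {b})) ⟶ Dv a,
      IsPullback k (hyp b) (dv a) hV.fromSpec := by
  subst hb
  exact exists_isPullback a hV.fromSpec (X.presheaf.map (homOfLE le_top).op).hom
    (IsAffineOpen.fromSpec_toSpecΓ hV)

/-- A morphism is smooth if it is so on the members of a family of open immersions which cover. -/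
theorem smooth_of_local {Z T : Scheme.{u}} (g : Z ⟶ T) (H : ∀ z : Z, ∃ (W : Scheme.{u}) (k : W ⟶ Z)
    (_ : IsOpenImmersion k), z ∈ Set.range k ∧ Smooth (k ≫ g)) : Smooth g := by
  choose W k hk hz hs using H
  let 𝒰 : Z.OpenCover := Scheme.Cover.mkOfCovers Z W k (fun z => ⟨z, hz z⟩) hk
  rw [IsZariskiLocalAtSource.iff_of_openCover (P := @Smooth) 𝒰]
  exact fun z => hs z

/-- The value of a global function on an affine scheme over `Z`. -/
noncomputable def ev {Z : Scheme.{u}} {A : Type u} [CommRing A] (t : Spec (CommRingCat.of A) ⟶ Z) :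
    Γ(Z, ⊤) →+* A := (t.appTop ≫ (Scheme.ΓSpecIso (CommRingCat.of A)).hom).hom

theorem comp_toSpecΓ {Z : Scheme.{u}} {A : Type u} [CommRing A] (t : Spec (CommRingCat.of A) ⟶ Z) :
    t ≫ Z.toSpecΓ = Spec.map (CommRingCat.ofHom (ev t)) := by
  rw [Scheme.toSpecΓ_naturality, ev, CommRingCat.ofHom_hom, Spec.map_comp, SpecMap_ΓSpecIso_hom]

theorem ev_comp {Z Z' : Scheme.{u}} {A B : Type u} [CommRing A] [CommRing B]
    (t : Spec (CommRingCat.of A) ⟶ Z) (t' : Spec (CommRingCat.of B) ⟶ Z') (q : A →+* B)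
    (g : Z' ⟶ Z) (h : t' ≫ g = Spec.map (CommRingCat.ofHom q) ≫ t) (b : Γ(Z, ⊤)) :
    ev t' (g.appTop b) = q (ev t b) := by
  have h1 : g.appTop ≫ t'.appTop = t.appTop ≫ (Spec.map (CommRingCat.ofHom q)).appTop := by
    rw [← Scheme.Hom.comp_appTop, h, Scheme.Hom.comp_appTop]
  have h2 : g.appTop ≫ t'.appTop ≫ (Scheme.ΓSpecIso (CommRingCat.of B)).hom =
      (t.appTop ≫ (Scheme.ΓSpecIso (CommRingCat.of A)).hom) ≫ CommRingCat.ofHom q := by
    rw [← Category.assoc, h1, Category.assoc, Category.assoc]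
    congr 1
    exact Scheme.ΓSpecIso_naturality (CommRingCat.ofHom q)
  exact congr($(h2).hom b)

/-- The trace of `Dv a` on an affine scheme over `X`. -/
theorem exists_isPullback_ev (a : Γ(X, ⊤)) {A : Type u} [CommRing A] (t : Spec (CommRingCat.of A) ⟶ X)
    (b : A) (hb : ev t a = b) :
    ∃ k : Spec (CommRingCat.of (A ⧸ Ideal.span {b})) ⟶ Dv a, IsPullback k (hyp b) (dv a) t := by
  subst hb
  exact exists_isPullback a t _ (comp_toSpecΓ t)

theorem ev_fromSpec {V : X.Opens} (hV : IsAffineOpen V) (a : Γ(X, ⊤)) :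
    ev (A := Γ(X, V)) hV.fromSpec a = X.presheaf.map (homOfLE le_top).op a := by
  have h1 : CommRingCat.ofHom (ev (A := Γ(X, V)) hV.fromSpec) = X.presheaf.map (homOfLE le_top).op :=
    Spec.map_injective ((comp_toSpecΓ (A := Γ(X, V)) hV.fromSpec).symm.trans hV.fromSpec_toSpecΓ)
  exact congr($(h1).hom a)

variable {f : X ⟶ S} {r : ℕ} {φ : Fin r → Γ(X, ⊤)}

/-- The components of a relative strict normal crossings divisor are smooth over the base. -/
theorem smooth_dv (hD : SGA1t.IsRelSNC f φ) (i : Fin r) : Smooth (dv (φ i) ≫ f) := by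
  refine smooth_of_local _ fun z => ?_
  have hz : dv (φ i) z ∉ X.basicOpen (φ i) := by
    have h : dv (φ i) z ∈ Set.range (dv (φ i)) := ⟨z, rfl⟩
    rw [range_dv] at h
    exact h
  let i₀ : SGA1t.vanishingAt φ (dv (φ i) z) := ⟨i, hz⟩
  obtain ⟨U, hU, V, hV, hVU, hxV, d, v, e, he, hE, hv⟩ :=
    Pi1.H411.Chart.exists_chart f φ hD (dv (φ i) z) ⟨i₀⟩
  obtain ⟨k, hk⟩ := exists_isPullback_fromSpec (φ i) hV (v (ULift.up (e i₀))) (hv i₀)
  have hk1 : IsOpenImmersion k := MorphismProperty.of_isPullback hk.flip (inferInstance : IsOpenImmersion hV.fromSpec)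
  refine ⟨_, k, hk1, ?_, ?_⟩
  · obtain ⟨y, hy⟩ : dv (φ i) z ∈ Set.range hV.fromSpec := by
      rw [hV.range_fromSpec]
      exact hxV
    obtain ⟨w, hw, -⟩ := Scheme.exists_preimage_of_isPullback hk z y hy.symm
    exact ⟨w, hw⟩
  · have h1 := smooth_hyperplane (f.appLE U V hVU).hom v hE (ULift.up (e i₀))
    have h2 : k ≫ dv (φ i) ≫ f = Spec.map (CommRingCat.ofHom ((Ideal.Quotient.mk
        (Ideal.span {v (ULift.up (e i₀))})).comp (f.appLE U V hVU).hom)) ≫ hU.fromSpec := by
      rw [← Category.assoc, hk.w, Category.assoc, ← hU.SpecMap_appLE_fromSpec f hV hVU,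
        CommRingCat.ofHom_comp, Spec.map_comp, Category.assoc]
      rfl
    rw [h2]
    have h3 : Smooth (Spec.map (CommRingCat.ofHom ((Ideal.Quotient.mk
        (Ideal.span {v (ULift.up (e i₀))})).comp (f.appLE U V hVU).hom))) :=
      SmoothOfRelativeDimension.smooth (Nat.card {j : ULift.{u} (Fin d) // j ≠ ULift.up (e i₀)}) _
    infer_instance

end K341.Snc
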