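import Groth.Agent.SGA1t.K341.Div

/-!
# Divisors which are locally a coordinate hyperplane

`HypAt b z`: around `z` the function `b` is one of several étale coordinates over an affine base.
`hypAt`, `hypAt_dv`: this holds for the functions of a relative strict normal crossings divisor, on `X` and,
for the restriction of one function to the divisor of another one, on the latter.
-/

set_option autoImplicit false
universe u
open CategoryTheory CategoryTheory.Limits AlgebraicGeometry Opposite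

namespace K341.Snc

open Groth.Agent Groth.Agent.Pi1.H405.Geom

/-- Around `z` the function `b` is one of several étale coordinates over an affine base. -/
def HypAt {Z : Scheme.{u}} (b : Γ(Z, ⊤)) (z : Z) : Prop :=
  ∃ (R A ι : Type u) (_ : CommRing R) (_ : CommRing A) (_ : Finite ι) (p : R →+* A) (a : ι → A)
    (_ : (MvPolynomial.eval₂Hom p a).Etale) (i : ι) (t : Spec (CommRingCat.of A) ⟶ Z)
    (_ : IsOpenImmersion t), z ∈ Set.range t ∧ ev t b = a i

variable {X S : Scheme.{u}} {f : X ⟶ S} {r : ℕ} {φ : Fin r → Γ(X, ⊤)}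

theorem hypAt (hD : SGA1t.IsRelSNC f φ) (i : Fin r) (x : X) (hx : x ∉ X.basicOpen (φ i)) :
    HypAt (φ i) x := by
  let i₀ : SGA1t.vanishingAt φ x := ⟨i, hx⟩
  obtain ⟨U, hU, V, hV, hVU, hxV, d, v, e, he, hE, hv⟩ := Pi1.H411.Chart.exists_chart f φ hD x ⟨i₀⟩
  refine ⟨Γ(S, U), Γ(X, V), ULift.{u} (Fin d), inferInstance, inferInstance, inferInstance,
    (f.appLE U V hVU).hom, v, hE, ULift.up (e i₀), hV.fromSpec, inferInstance, ?_, ?_⟩
  · rw [hV.range_fromSpec]
    exact hxV
  · rw [ev_fromSpec, hv]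

/-- The restriction of a function to the divisor of another one. -/
noncomputable def rs (a b : Γ(X, ⊤)) : Γ(Dv a, ⊤) := (dv a).appTop b

theorem mem_basicOpen_rs (a b : Γ(X, ⊤)) (z : Dv a) :
    z ∈ (Dv a).basicOpen (rs a b) ↔ dv a z ∈ X.basicOpen b := by
  have h : (dv a) ⁻¹ᵁ X.basicOpen b = (Dv a).basicOpen (rs a b) :=
    Scheme.preimage_basicOpen_top (dv a) b
  rw [← h]
  rfl

theorem hypAt_rs (hD : SGA1t.IsRelSNC f φ) (i j : Fin r) (hij : i ≠ j) (z : Dv (φ i))
    (hz : z ∉ (Dv (φ i)).basicOpen (rs (φ i) (φ j))) : HypAt (rs (φ i) (φ j)) z := by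
  have hx : dv (φ i) z ∉ X.basicOpen (φ i) := by
    have h : dv (φ i) z ∈ Set.range (dv (φ i)) := ⟨z, rfl⟩
    rw [range_dv] at h
    exact h
  have hx' : dv (φ i) z ∉ X.basicOpen (φ j) := fun h => hz ((mem_basicOpen_rs _ _ _).2 h)
  let i₀ : SGA1t.vanishingAt φ (dv (φ i) z) := ⟨i, hx⟩
  let j₀ : SGA1t.vanishingAt φ (dv (φ i) z) := ⟨j, hx'⟩
  obtain ⟨U, hU, V, hV, hVU, hxV, d, v, e, he, hE, hv⟩ :=
    Pi1.H411.Chart.exists_chart f φ hD (dv (φ i) z) ⟨i₀⟩
  obtain ⟨k, hk⟩ := exists_isPullback_fromSpec (φ i) hV (v (ULift.up (e i₀))) (hv i₀)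
  have hk1 : IsOpenImmersion k :=
    MorphismProperty.of_isPullback hk.flip (inferInstance : IsOpenImmersion hV.fromSpec)
  have hne : ULift.up.{u} (e j₀) ≠ ULift.up (e i₀) := by
    intro h
    have h1 := he (ULift.up_injective h)
    exact hij (congrArg Subtype.val h1).symm
  refine ⟨Γ(S, U), Γ(X, V) ⧸ Ideal.span {v (ULift.up (e i₀))},
    {m : ULift.{u} (Fin d) // m ≠ ULift.up (e i₀)}, inferInstance, inferInstance, inferInstance,
    (Ideal.Quotient.mk (Ideal.span {v (ULift.up (e i₀))})).comp (f.appLE U V hVU).hom,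
    fun m => Ideal.Quotient.mk (Ideal.span {v (ULift.up (e i₀))}) (v m),
    etale_quotient (f.appLE U V hVU).hom v hE (ULift.up (e i₀)), ⟨ULift.up (e j₀), hne⟩, k, hk1, ?_, ?_⟩
  · obtain ⟨y, hy⟩ : dv (φ i) z ∈ Set.range hV.fromSpec := by
      rw [hV.range_fromSpec]
      exact hxV
    obtain ⟨w, hw, -⟩ := Scheme.exists_preimage_of_isPullback hk z y hy.symm
    exact ⟨w, hw⟩
  · have h1 := ev_comp (A := Γ(X, V)) hV.fromSpec k
      (Ideal.Quotient.mk (Ideal.span {v (ULift.up (e i₀))})) (dv (φ i)) hk.w (φ j)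
    refine h1.trans ?_
    rw [ev_fromSpec]
    exact congrArg _ (hv j₀).symm

end K341.Snc
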