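import Groth.Agent.SGA1t.K341.HypAt
import Groth.Agent.Pi1.H405.Package

/-!
# Cohomological purity along a divisor which is locally a coordinate hyperplane
-/

set_option autoImplicit false
universe u
open CategoryTheory CategoryTheory.Limits AlgebraicGeometry Opposite

namespace K341.Snc

open Groth.Agent Groth.Agent.Pi1.H405.Geom Groth.Agent.Sga4B.Pure

/-- Purity along a coordinate hyperplane. -/
theorem pureC_hyp {R A ι : Type u} [CommRing R] [CommRing A] [Finite ι] (p : R →+* A) (a : ι → A)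
    (h : (MvPolynomial.eval₂Hom p a).Etale) (i : ι) (n : ℕ) (hn : IsUnit (n : A)) {U : Scheme.{u}}
    (j : U ⟶ Spec (CommRingCat.of A)) [IsOpenImmersion j]
    (hj : Set.range j = (Set.range (hyp (a i)))ᶜ) : PureC n 1 j (hyp (a i)) := by
  have h1 := smooth_ambient p a h i
  have h2 := smooth_hyperplane p a h i
  refine (Sga4B.PureTower.pureF_smoothPair (Sga4B.PurityMainB.stmtLine n) (Sga4B.PureComp.stmtComp n)
    (Spec.map (CommRingCat.ofHom p))
    (Spec.map (CommRingCat.ofHom ((Ideal.Quotient.mk (Ideal.span {a i})).comp p))) (hyp (a i))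
    (Nat.card {j : ι // j ≠ i}) 1 ?_ j hj (Pi1.H405.Package.isUnit_Γ n hn)).pureC
  rw [← Spec.map_comp, ← CommRingCat.ofHom_comp]

/-- Purity along a divisor which is locally a coordinate hyperplane. -/
theorem pureF_dv {Z U : Scheme.{u}} (b : Γ(Z, ⊤)) (H : ∀ z : Z, z ∉ Z.basicOpen b → HypAt b z)
    (n : ℕ) (hn : IsUnit (n : Γ(Z, ⊤))) (j : U ⟶ Z) [IsOpenImmersion j]
    (hU : Set.range j = (Set.range (dv b))ᶜ) : PureF n 1 j (dv b) := by
  refine pureF_of_local j (dv b) n 1 fun x => ?_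
  by_cases hx : x ∈ Set.range (dv b)
  · have hx' : x ∉ Z.basicOpen b := by
      rw [range_dv] at hx
      exact hx
    obtain ⟨R, A, ι, _, _, _, p, a, hE, i, v, hv, ⟨z, hz⟩, hb⟩ := H x hx'
    obtain ⟨k, sq⟩ := exists_isPullback_ev b v (a i) hb
    have hr : Set.range (pullback.snd j v) = v ⁻¹' Set.range j := Scheme.Pullback.range_snd j v
    have hnA : IsUnit (n : A) := by
      have h1 := hn.map (ev v)
      rwa [map_natCast] at h1
    refine ⟨Spec (CommRingCat.of A), pullback j v, _, v, inferInstance, pullback.snd j v, inferInstance,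
      k, _, z, hz, hr, sq, pureC_hyp p a hE i n hnA _ ?_⟩
    rw [hr, hU, Sga4B.PureTower.isPullback_range sq]
    rfl
  · have hx' : x ∈ Set.range j := by rw [hU]; exact hx
    obtain ⟨z, hz⟩ := hx'
    have hempty : IsEmpty ↥(pullback (dv b) j) := by
      refine ⟨fun t => ?_⟩
      have h1 : j (pullback.snd (dv b) j t) ∈ Set.range (dv b) :=
        ⟨pullback.fst (dv b) j t, by
          rw [← Scheme.Hom.comp_apply, pullback.condition, Scheme.Hom.comp_apply]⟩
      have h2 : j (pullback.snd (dv b) j t) ∈ (Set.range (dv b))ᶜ := hU ▸ ⟨_, rfl⟩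
      exact h2 h1
    refine ⟨U, U, pullback (dv b) j, j, inferInstance, 𝟙 U, inferInstance, pullback.fst (dv b) j,
      pullback.snd (dv b) j, z, hz, ?_, IsPullback.of_hasPullback (dv b) j,
      (Sga4B.PureTower.pureF_isEmpty (𝟙 U) (pullback.snd (dv b) j)).pureC⟩
    ext t
    simp

/-- Direct images from the complement of a closed subscheme along which purity in codimension one holds. -/
theorem pair_of_pureF {X Y U : Scheme.{u}} (i : Y ⟶ X) [IsClosedImmersion i] (j : U ⟶ X)
    [IsOpenImmersion j] (hU : Set.range j = (Set.range i)ᶜ) (n : ℕ) (hP : PureF n 1 j i)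
    (F : EtCoh.Ab X) (hF : EtCoh.IsFiniteLocallyConstant F) (hFn : EtCoh.KilledBy n F) :
    IsIso ((EtCoh.pullPushAdj j).unit.app F) ∧
      IsZero ((EtCoh.Rpush j 2).obj ((EtCoh.pull j).obj F)) ∧
      ∃ L : EtCoh.Ab Y, EtCoh.IsFiniteLocallyConstant L ∧ EtCoh.KilledBy n L ∧
        Nonempty ((EtCoh.Rpush j 1).obj ((EtCoh.pull j).obj F) ≅ (EtCoh.push i).obj L) := by
  obtain ⟨hz, h4⟩ := hP F hF hFn
  refine ⟨Sga4B.SuppFun.isIso_unit j F (hz 0 (by omega)) (hz 1 (by omega)),
    Sga4B.SuppFun.isZero_Rpush j 2 (by omega) F (hz 3 (by omega)),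
    (EtCoh.pull i).obj ((EtDual.locCoh j 2).obj F), ?_, ?_, ?_⟩
  · refine Sga4B.ClosedSupp.LocIso.isFLC (Sga4B.Pure.LocIso.pull h4 i) ?_
    obtain ⟨hf, hff⟩ := S0067.result i
    exact Etrest.ConstBasic.isFiniteLocallyConstant_of_iso
      (asIso ((EtCoh.pullPushAdj i).counit.app ((EtCoh.pull i).obj F))).symm
      (EtpbcA.PullFLC.isFLC_pull i F hF)
  · have : (EtDual.locCoh j 2).Additive := inferInstanceAs ((EtDual.secSupp j).rightDerived 2).Additive
    exact Pi1.H405.Package.killedBy_map (EtCoh.pull i)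
      (Pi1.H405.Package.killedBy_map (EtDual.locCoh j 2) hFn)
  · obtain ⟨e⟩ := Sga4B.SuppFun.nonempty_locCoh_iso j 1 le_rfl F
    exact ⟨e.symm ≪≫ Sga4B.ClosedSupp.locCohUnitIso i j 2 F hU⟩

end K341.Snc
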