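import Groth.Agent.SGA1t.K341.Ind
import Groth.Agent.SGA1t.K341.PureDv
import Groth.Agent.Sga4h.PushDer
import Groth.Agent.S0071
import Groth.Agent.S3097

/-!
# Sheaves all of whose higher direct images are finite locally constant

* `PushFLC f F`: all `R^q f_* F` are finite locally constant; `isExtClass_pushFLC`;
* `pushFLC_const`, `pushFLC_of_closed`: for `f` proper and smooth, and for direct images along `i` with
  `i ≫ f` proper and smooth;
* `hypP_dv`: the hypotheses of the induction `goodP_main` for the complements of the components of a relative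
  strict normal crossings divisor.
-/

set_option autoImplicit false
universe u
open CategoryTheory CategoryTheory.Limits AlgebraicGeometry Opposite

namespace K341.Snc

open Groth.Agent Groth.Agent.EtpbcA.FLCExact Groth.Agent.Pi1.H405 Groth.Agent.Pi1.H405.Closed
open scoped ZeroObject

section PushFLC

variable {X S : Scheme.{u}} (f : X ⟶ S)

/-- All higher direct images are finite locally constant. -/
def PushFLC (F : EtCoh.Ab X) : Prop := ∀ q : ℕ, EtCoh.IsFiniteLocallyConstant ((EtCoh.Rpush f q).obj F)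

theorem isExtClass_pushFLC : IsExtClass (PushFLC f) where
  iso e h q := Etrest.ConstBasic.isFiniteLocallyConstant_of_iso ((EtCoh.Rpush f q).mapIso e) (h q)
  zero h q := by
    have : (EtCoh.Rpush f q).Additive := inferInstanceAs ((EtCoh.push f).rightDerived q).Additive
    exact flc_of_isZero ((EtCoh.Rpush f q).map_isZero h)
  ext {T} hT h₁ h₃ q := by
    have hE := EtpbcB.RDerLES.exact₃ (EtCoh.push f) hT q
    have hM := EtpbcB.RDerLES.exact₂ (EtCoh.push f) hT q
    cases q with
    | zero =>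
      have : Mono ((EtCoh.Rpush f 0).map T.f) := (Etrest.FinComp.hasLES f).mono T hT
      exact flc_five (0 : (0 : EtCoh.Ab S) ⟶ (EtCoh.Rpush f 0).obj T.X₁) ((EtCoh.Rpush f 0).map T.f)
        ((EtCoh.Rpush f 0).map T.g) (EtpbcB.RDerLES.δ (EtCoh.push f) hT 0)
        (stalkExact_of_isZero_left (isZero_zero _) _ _) (stalkExact_of_exact hM)
        (stalkExact_of_exact hE) (flc_of_isZero (isZero_zero _)) (h₁ 0) (h₃ 0) (h₁ 1)
    | succ q =>
      exact flc_five (EtpbcB.RDerLES.δ (EtCoh.push f) hT q) ((EtCoh.Rpush f (q + 1)).map T.f)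
        ((EtCoh.Rpush f (q + 1)).map T.g) (EtpbcB.RDerLES.δ (EtCoh.push f) hT (q + 1))
        (stalkExact_of_exact (EtpbcB.RDerLES.exact₁ (EtCoh.push f) hT q)) (stalkExact_of_exact hM)
        (stalkExact_of_exact hE) (h₃ q) (h₁ (q + 1)) (h₃ (q + 1)) (h₁ (q + 2))

variable {f}

/-- Direct images along a closed subscheme `i` for which `i ≫ f` is proper and smooth. -/
theorem pushFLC_of_closed {Z : Scheme.{u}} (i : Z ⟶ X) [IsClosedImmersion i] [IsProper (i ≫ f)]
    [Smooth (i ≫ f)] (n : ℕ) (hn : IsUnit (n : Γ(S, ⊤))) (L : EtCoh.Ab Z)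
    (hL : EtCoh.IsFiniteLocallyConstant L) (hLn : EtCoh.KilledBy n L) :
    PushFLC f ((EtCoh.push i).obj L) := fun q =>
  Etrest.ConstBasic.isFiniteLocallyConstant_of_iso
    (Sga4h.PushDer.rpushCompIso i f L (fun p hp => S0071.result i L p hp) q).symm
    (S3097.result (i ≫ f) n hn L hL hLn q)

end PushFLC

section Divisor

open Pi1.H405.Closed

variable {X S : Scheme.{u}} {f : X ⟶ S} {r : ℕ} {φ : Fin r → Γ(X, ⊤)}

theorem range_compl_dv (a : Γ(X, ⊤)) : Set.range (X.basicOpen a).ι = (Set.range (dv a))ᶜ := by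
  rw [range_dv, compl_compl, Scheme.Opens.range_ι]

/-- The hypotheses of the induction, for the complements of the components of a relative strict normal
crossings divisor in a proper scheme. -/
theorem hypP_dv [IsProper f] (hD : SGA1t.IsRelSNC f φ) (n : ℕ) (hn : IsUnit (n : Γ(S, ⊤)))
    (M : Type) [AddCommGroup M] [Finite M] (hM : ∀ m : M, n • m = 0) :
    HypP M (fun i => X.basicOpen (φ i)) (PushFLC f) := by
  have hnX : IsUnit (n : Γ(X, ⊤)) := by
    have h1 := hn.map f.appTop.hom
    rwa [map_natCast] at h1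
  have hF : EtCoh.IsFiniteLocallyConstant (EtCoh.const X M) :=
    Etrest.ConstBasic.isFiniteLocallyConstant_const _ M
  have hFn : EtCoh.KilledBy n (EtCoh.const X M) := Etrest.ConstBasic.killedBy_const _ M n hM
  have key := fun i => pair_of_pureF (dv (φ i)) (X.basicOpen (φ i)).ι (range_compl_dv (φ i)) n
    (pureF_dv (φ i) (fun z hz => hypAt hD i z hz) n hnX _ (range_compl_dv (φ i))) (EtCoh.const X M) hF hFn
  refine ⟨fun i => (key i).1, fun i => (key i).2.1, fun i => ?_, fun i i' hi => ?_⟩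
  · obtain ⟨-, -, L, hL, hLn, ⟨e⟩⟩ := key i
    have := smooth_dv hD i
    exact (isExtClass_pushFLC f).iso e.symm (pushFLC_of_closed (dv (φ i)) n hn L hL hLn)
  · obtain ⟨-, -, L, hL, hLn, ⟨e⟩⟩ := key i
    refine isIso_unit_of_iso _ e.symm ?_
    -- restrict to the component `φ i = 0`
    have hnZ : IsUnit (n : Γ(Dv (φ i), ⊤)) := by
      have h1 := hnX.map (dv (φ i)).appTop.hom
      rwa [map_natCast] at h1
    let U' : (Dv (φ i)).Opens := (Dv (φ i)).basicOpen (rs (φ i) (φ i'))
    obtain ⟨h1, -⟩ := pair_of_pureF (dv (rs (φ i) (φ i'))) U'.ι (range_compl_dv (rs (φ i) (φ i'))) n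
      (pureF_dv (rs (φ i) (φ i')) (fun z hz => hypAt_rs hD i i' hi z hz) n hnZ _
        (range_compl_dv (rs (φ i) (φ i')))) L hL hLn
    -- the restriction of the closed immersion
    have hle : Set.range (U'.ι ≫ dv (φ i)) ⊆ Set.range (X.basicOpen (φ i')).ι := by
      rw [Scheme.Opens.range_ι]
      rintro _ ⟨y, rfl⟩
      exact (mem_basicOpen_rs (φ i) (φ i') (U'.ι y)).1 y.2
    let k : U'.toScheme ⟶ (X.basicOpen (φ i')).toScheme :=
      IsOpenImmersion.lift (X.basicOpen (φ i')).ι (U'.ι ≫ dv (φ i)) hle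
    have hk : k ≫ (X.basicOpen (φ i')).ι = U'.ι ≫ dv (φ i) := IsOpenImmersion.lift_fac _ _ _
    exact isIso_unit_of_iso_push (X.basicOpen (φ i')).ι
      (G := (EtCoh.push k).obj ((EtCoh.pull U'.ι).obj L))
      ((EtCoh.push (dv (φ i))).mapIso (asIso ((EtCoh.pullPushAdj U'.ι).unit.app L)) ≪≫
        (EtCoh.pushComp (dv (φ i)) U'.ι).app _ ≪≫ (EtCoh.pushCongr hk.symm).app _ ≪≫
        ((EtCoh.pushComp (X.basicOpen (φ i')).ι k).app _).symm)

end Divisor

end K341.Snc
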